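import Mathlib
import Cfsg.Prelude

set_option autoImplicit false

/-! Data: generators of the stabilizer of three points in the group of the code, a chain of
transversals, and coordinates of the other 21 points in the projective plane of order four. -/

namespace Cfsg.Agent.Helper9.Golay

def l34Prog1 : List (ℕ × ℕ) := [(1, 0), (2, 3), (4, 4), (5, 5), (5, 6), (6, 6), (8, 8), (7, 9), (0, 0), (1, 11), (2, 11), (0, 13), (1, 14), (0, 12), (0, 16), (17, 17), (18, 18), (19, 19), (18, 20), (21, 15), (0, 11), (0, 23), (2, 0), (2, 25), (26, 26), (27, 27), (28, 24), (2, 4), (0, 30), (25, 25), (32, 32), (25, 33), (34, 31), (1, 23), (0, 17), (10, 37), (0, 25), (0, 39), (2, 40), (1, 41), (0, 36), (43, 43), (44, 44), (45, 45), (44, 46), (47, 42), (2, 13), (11, 11), (11, 50), (50, 50), (52, 52), (51, 53), (54, 49), (2, 12), (39, 39), (57, 57), (57, 58), (59, 56), (2, 35), (22, 61), (22, 29), (35, 63), (64, 64), (65, 65), (65, 66), (66, 66), (68, 68), (67, 69), (70, 62),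 (22, 35), (38, 72), (72, 72), (74, 74), (72, 75), (76, 73), (35, 35), (22, 78), (29, 2), (80, 80), (81, 81), (81, 82), (83, 79), (55, 35), (38, 85), (48, 2), (87, 87), (88, 88), (89, 89), (88, 90), (91, 86), (38, 35), (2, 93), (55, 63), (95, 95), (96, 96), (96, 97), (97, 97), (98, 99), (100, 94), (38, 61), (29, 29), (29, 103), (103, 103), (104, 105), (106, 102), (60, 29), (38, 108), (78, 78), (110, 110), (110, 111), (111, 111), (113, 113), (112, 114), (115, 109), (38, 64), (92, 84), (71, 71), (71, 119), (119, 119), (120, 121), (84, 116), (77, 123), (118, 118), (125, 125), (125, 126), (127, 124), (107, 84), (77, 101), (116, 130), (122, 131), (92, 71), (101, 133), (117, 117), (135, 135), (135, 136), (137, 134), (92, 116), (117, 139), (130, 130), (141, 141), (142, 142), (141, 143), (144, 140), (71, 139), (127, 146), (145, 132), (145, 148), (129, 149), (138, 150), (138, 151), (128, 147), (129, 153)]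

def l34V : List ℕ := [152, 154]

def l34Prog2 : List (ℕ × ℕ) := [(0, 0), (1, 0), (1, 1), (0, 2), (1, 2), (0, 3), (1, 3), (0, 4), (1, 4), (0, 6), (1, 6), (0, 7), (1, 9), (0, 10), (1, 11), (1, 12), (0, 15), (0, 16), (1, 15), (15, 15), (21, 21), (22, 20), (1, 10), (13, 13), (25, 25), (26, 24), (1, 18), (9, 9), (29, 29), (30, 28), (23, 23), (27, 23), (31, 23), (23, 27), (27, 27), (31, 27), (27, 32), (31, 32), (23, 33), (27, 33), (23, 34), (27, 34), (27, 35), (27, 36), (23, 39), (31, 43), (23, 45), (48, 48), (48, 49), (32, 32), (31, 46), (46, 46), (53, 53), (54, 52), (27, 45), (50, 56), (27, 47), (51, 58), (57, 55), (59, 55), (55, 57), (57, 57), (59, 57), (57, 59), (55, 60), (57, 60), (55, 64), (57, 64), (55, 65), (57, 65), (57, 70), (62, 62), (73, 72), (74, 74)]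

def l34Levels : List (ℕ × List (ℕ × ℕ)) := [(3, [(3, 100000), (4, 19), (5, 5), (6, 11), (7, 2), (8, 13), (9, 0), (10, 9), (11, 7), (12, 16), (13, 3), (14, 18), (15, 1), (16, 4), (17, 12), (18, 6), (19, 10), (20, 17), (21, 8), (22, 14), (23, 15)]),
  (4, [(4, 100000), (5, 27), (6, 48), (7, 38), (8, 47), (9, 32), (10, 42), (11, 33), (12, 41), (13, 43), (14, 37), (15, 34), (16, 36), (17, 40), (18, 23), (19, 35), (20, 44), (21, 45), (22, 39), (23, 46)]),
  (5, [(5, 100000), (6, 64), (8, 67), (9, 57), (11, 65), (13, 66), (14, 59), (15, 69), (16, 71), (17, 55), (18, 68), (19, 63), (20, 70), (21, 62), (22, 60), (23, 61)]),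
  (6, [(6, 100000), (16, 75), (21, 74)])]

def l34PtTab : List ℕ := [0, 5, 5, 5, 4, 9, 18, 19, 4, 19, 9, 18, 4, 18, 19, 9, 3, 14, 23, 17, 12, 6, 13, 15, 10, 8, 22, 21, 7, 20, 16, 11, 3, 17, 14, 23, 7, 11, 20, 16, 12, 15, 6, 13, 10, 21, 8, 22, 3, 23, 17, 14, 10, 22, 21, 8, 7, 16, 11, 20, 12, 13, 15, 6]

def l34Mats : List (List (List ℕ)) := [[[1, 1, 1], [3, 2, 1], [2, 0, 0]], [[1, 0, 1], [1, 2, 2], [0, 3, 2]]]

def l34GenTabs : List (List ℕ) := [[0, 1, 2, 9, 19, 21, 17, 5, 20, 7, 18, 8, 4, 11, 12, 15, 10, 16, 6, 23, 22, 3, 13, 14], [0, 1, 2, 15, 7, 9, 12, 18, 3, 13, 22, 5, 14, 21, 10, 16, 19, 20, 17, 8, 4, 11, 6, 23]]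

end Cfsg.Agent.Helper9.Golay
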