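import Mathlib
import Cfsg.Prelude

set_option autoImplicit false

/-! A computable model of the field with four elements. -/

namespace Cfsg.Agent.Helper9

/-- the field with four elements: `a + b ω` with `ω ^ 2 = ω + 1`. -/
structure K4 : Type where
  a : Bool
  b : Bool
  deriving DecidableEq, Fintype

namespace K4

instance : Zero K4 := ⟨⟨false, false⟩⟩
instance : One K4 := ⟨⟨true, false⟩⟩
instance : Add K4 := ⟨fun x y => ⟨xor x.a y.a, xor x.b y.b⟩⟩
instance : Neg K4 := ⟨fun x => x⟩
instance : Mul K4 := ⟨fun x y =>
  ⟨xor (x.a && y.a) (x.b && y.b), xor (xor (x.a && y.b) (x.b && y.a)) (x.b && y.b)⟩⟩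
instance : Inv K4 := ⟨fun x => x * x⟩

/-- the generator. -/
def ω : K4 := ⟨false, true⟩

instance : Field K4 where
  add := (· + ·)
  zero := 0
  neg := fun x => -x
  mul := (· * ·)
  one := 1
  inv := fun x => x⁻¹
  add_assoc := by decide
  zero_add := by decide
  add_zero := by decide
  add_comm := by decide
  neg_add_cancel := by decide
  mul_assoc := by decide
  one_mul := by decide
  mul_one := by decide
  left_distrib := by decide
  right_distrib := by decide
  mul_comm := by decide
  zero_mul := by decide
  mul_zero := by decide
  exists_pair_ne := ⟨0, 1, by decide⟩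
  mul_inv_cancel := by decide
  inv_zero := by decide
  nsmul := nsmulRec
  zsmul := zsmulRec
  npow := npowRec
  nnqsmul := _
  qsmul := _
  nnqsmul_def := fun _ _ => rfl
  qsmul_def := fun _ _ => rfl

theorem card : Fintype.card K4 = 4 := by decide

end K4

end Cfsg.Agent.Helper9
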