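import Mathlib
import Cfsg.Prelude
import Cfsg.Agent.Helper9.L34.K4
import Cfsg.Agent.Helper9.L34.Data
import Cfsg.Agent.Helper9.Golay.Tbl

set_option autoImplicit false

/-!
The 21 points other than three fixed ones, as the points of the projective plane over the field
with four elements.
-/

namespace Cfsg.Agent.Helper9.Golay

open Cfsg Cfsg.Agent.Helper9
open scoped LinearAlgebra.Projectivization

/-- vectors of length three over the field with four elements. -/
abbrev V34 : Type := Fin 3 → K4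

def k4code (x : K4) : ℕ := (if x.a then 1 else 0) + (if x.b then 2 else 0)

def k4of (n : ℕ) : K4 := ⟨n % 2 == 1, n / 2 % 2 == 1⟩

/-- the number of the point of a vector given by its coordinates. -/
def ptN3 (x y z : K4) : ℕ := l34PtTab.getD (k4code x + 4 * k4code y + 16 * k4code z) 0

/-- the number of the point of a vector. -/
def ptN (v : V34) : ℕ := ptN3 (v 0) (v 1) (v 2)

/-- the point of a vector. -/
def ptOf (v : V34) : GolayPt := idxPtN (ptN v)

theorem vec_eq (v : V34) : v = ![v 0, v 1, v 2] := by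
  ext i
  fin_cases i <;> rfl

theorem ptN3_lt : ∀ x y z : K4, ptN3 x y z < 24 := by decide

theorem ptN_lt (v : V34) : ptN v < 24 := ptN3_lt _ _ _

theorem ptN3_smul : ∀ x y z t : K4, (t * x ≠ 0 ∨ t * y ≠ 0 ∨ t * z ≠ 0) →
    ptN3 (t * x) (t * y) (t * z) = ptN3 x y z := by decide

theorem ptN_smul (v : V34) (t : K4) (h : t • v ≠ 0) : ptN (t • v) = ptN v := by
  unfold ptN
  apply ptN3_smul
  by_contra hcon
  rw [not_or, not_or, not_not, not_not, not_not] at hcon
  apply h
  ext i
  fin_cases i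
  · exact hcon.1
  · exact hcon.2.1
  · exact hcon.2.2

/-- a vector for each point. -/
def repN (n : ℕ) : K4 × K4 × K4 :=
  ((List.range 64).map (fun c => (k4of c, k4of (c / 4), k4of (c / 16)))).getD
    ((List.range 64).findIdx (fun c => decide (c ≠ 0) && l34PtTab.getD c 0 == n)) (0, 0, 0)

theorem rep_spec : ∀ x y z : K4, (x ≠ 0 ∨ y ≠ 0 ∨ z ≠ 0) →
    ∃ a : K4, a * (repN (ptN3 x y z)).1 = x ∧ a * (repN (ptN3 x y z)).2.1 = y ∧
      a * (repN (ptN3 x y z)).2.2 = z := by decide

theorem rep_surj : ∀ n ∈ List.range 24, n < 3 ∨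
    (((repN n).1 ≠ 0 ∨ (repN n).2.1 ≠ 0 ∨ (repN n).2.2 ≠ 0) ∧
      ptN3 (repN n).1 (repN n).2.1 (repN n).2.2 = n) := by decide

theorem ptN3_ge : ∀ x y z : K4, (x ≠ 0 ∨ y ≠ 0 ∨ z ≠ 0) → 3 ≤ ptN3 x y z := by decide

theorem coords_ne_zero {v : V34} (hv : v ≠ 0) : v 0 ≠ 0 ∨ v 1 ≠ 0 ∨ v 2 ≠ 0 := by
  by_contra hcon
  rw [not_or, not_or, not_not, not_not, not_not] at hcon
  apply hv
  ext i
  fin_cases i
  · exact hcon.1
  · exact hcon.2.1
  · exact hcon.2.2

/-- the point of a point of the projective plane. -/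
noncomputable def beta34 : ℙ K4 V34 → GolayPt :=
  Projectivization.lift (fun v : {v : V34 // v ≠ 0} => ptOf v.1) (by
    rintro ⟨a, ha⟩ ⟨b, hb⟩ t h
    change a = t • b at h
    change ptOf a = ptOf b
    subst h
    unfold ptOf
    rw [ptN_smul b t ha])

theorem beta34_mk (v : V34) (hv : v ≠ 0) : beta34 (Projectivization.mk K4 v hv) = ptOf v := rfl

/-- the vector of a point. -/
def repV (n : ℕ) : V34 := ![(repN n).1, (repN n).2.1, (repN n).2.2]

theorem repV_spec {v : V34} (hv : v ≠ 0) : ∃ a : K4, a • repV (ptN v) = v := by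
  obtain ⟨a, h0, h1, h2⟩ := rep_spec (v 0) (v 1) (v 2) (coords_ne_zero hv)
  refine ⟨a, ?_⟩
  ext i
  fin_cases i
  · exact h0
  · exact h1
  · exact h2

theorem beta34_injective : Function.Injective beta34 := by
  intro x y h
  induction x using Projectivization.ind with | _ v hv =>
  induction y using Projectivization.ind with | _ w hw =>
  rw [beta34_mk, beta34_mk] at h
  have hn : ptN v = ptN w := idxPtN_injOn (ptN_lt v) (ptN_lt w) h
  obtain ⟨a, ha⟩ := repV_spec hv
  obtain ⟨b, hb⟩ := repV_spec hw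
  rw [hn] at ha
  have hb0 : b ≠ 0 := by
    rintro rfl
    rw [zero_smul] at hb
    exact hw hb.symm
  rw [Projectivization.mk_eq_mk_iff']
  refine ⟨a * b⁻¹, ?_⟩
  rw [← hb, ← ha, smul_smul, mul_assoc, inv_mul_cancel₀ hb0, mul_one]

theorem beta34_surj (y : GolayPt) : y = idxPtN 0 ∨ y = idxPtN 1 ∨ y = idxPtN 2 ∨
    ∃ x, beta34 x = y := by
  have hy := ptIdx_lt y
  have hs := rep_surj (ptIdx y) (List.mem_range.mpr hy)
  rcases hs with hs | ⟨hne, hs⟩
  · have : ptIdx y = 0 ∨ ptIdx y = 1 ∨ ptIdx y = 2 := by omega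
    rcases this with h | h | h
    · left; rw [← h, idxPtN_ptIdx]
    · right; left; rw [← h, idxPtN_ptIdx]
    · right; right; left; rw [← h, idxPtN_ptIdx]
  · right; right; right
    have hv : repV (ptIdx y) ≠ 0 := by
      intro h0
      have e0 := congrFun h0 0
      have e1 := congrFun h0 1
      have e2 := congrFun h0 2
      rcases hne with h | h | h
      · exact h e0
      · exact h e1
      · exact h e2
    refine ⟨Projectivization.mk K4 (repV (ptIdx y)) hv, ?_⟩
    rw [beta34_mk]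
    unfold ptOf
    have : ptN (repV (ptIdx y)) = ptIdx y := hs
    rw [this, idxPtN_ptIdx]

theorem beta34_ne (x : ℙ K4 V34) : beta34 x ≠ idxPtN 0 ∧ beta34 x ≠ idxPtN 1 ∧
    beta34 x ≠ idxPtN 2 := by
  induction x using Projectivization.ind with | _ v hv =>
  rw [beta34_mk]
  have h3 : 3 ≤ ptN v := ptN3_ge _ _ _ (coords_ne_zero hv)
  have hlt := ptN_lt v
  unfold ptOf
  refine ⟨fun h => ?_, fun h => ?_, fun h => ?_⟩
  · have := idxPtN_injOn hlt (by norm_num) h
    omega
  · have := idxPtN_injOn hlt (by norm_num) h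
    omega
  · have := idxPtN_injOn hlt (by norm_num) h
    omega

end Cfsg.Agent.Helper9.Golay
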