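import Mathlib
import Cfsg.Prelude
import Cfsg.Agent.Helper9.Golay.M24Trans
import Cfsg.Agent.Helper9.Golay.Chain

set_option autoImplicit false

/-!
The stabilizer of three points in the group of the code: its order, and the reduction to three
standard points.
-/

namespace Cfsg.Agent.Helper9.Golay

open Cfsg
open scoped Pointwise

/-- an embedding with three prescribed values. -/
def embTriple (a b c : GolayPt) (hab : a ≠ b) (hac : a ≠ c) (hbc : b ≠ c) : Fin 3 ↪ GolayPt where
  toFun := ![a, b, c]
  inj' := by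
    intro i j h
    fin_cases i <;> fin_cases j <;> simp_all

theorem m24_three_trans : MulAction.IsMultiplyPretransitive M24 GolayPt 3 := by
  have := m24_isMultiplyPretransitive
  exact MulAction.isMultiplyPretransitive_of_le (n := 5) (by norm_num)
    (by rw [Nat.card_eq_fintype_card, card_golayPt]; norm_num)

theorem m24_triple {a b c a' b' c' : GolayPt} (hab : a ≠ b) (hac : a ≠ c) (hbc : b ≠ c)
    (hab' : a' ≠ b') (hac' : a' ≠ c') (hbc' : b' ≠ c') :
    ∃ g : ↥M24, g • a = a' ∧ g • b = b' ∧ g • c = c' := by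
  have h3 := m24_three_trans
  rw [MulAction.isMultiplyPretransitive_iff] at h3
  obtain ⟨g, hg⟩ := h3 (embTriple a b c hab hac hbc) (embTriple a' b' c' hab' hac' hbc')
  refine ⟨g, ?_, ?_, ?_⟩
  · exact congrArg (fun f => f 0) hg
  · exact congrArg (fun f => f 1) hg
  · exact congrArg (fun f => f 2) hg

/-- the order of the stabilizer of three points. -/
theorem card_three_pt_stab {p q r : GolayPt} (hpq : p ≠ q) (hpr : p ≠ r) (hqr : q ≠ r) :
    Nat.card ↥(MulAction.stabilizer M24 p ⊓ MulAction.stabilizer M24 q ⊓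
      MulAction.stabilizer M24 r) = 20160 := by
  classical
  let t0 : Fin 3 ↪ GolayPt := embTriple p q r hpq hpr hqr
  have h := card_eq_orbit_mul (⊤ : Subgroup ↥M24) t0
  rw [Subgroup.card_top, card_M24, top_inf_eq] at h
  have hJ : (MulAction.stabilizer M24 t0 : Subgroup M24) =
      MulAction.stabilizer M24 p ⊓ MulAction.stabilizer M24 q ⊓ MulAction.stabilizer M24 r := by
    ext g
    simp only [Subgroup.mem_inf, MulAction.mem_stabilizer_iff]
    constructor
    · intro h2
      have e := fun i => congrArg (fun f : Fin 3 ↪ GolayPt => f i) h2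
      exact ⟨⟨e 0, e 1⟩, e 2⟩
    · rintro ⟨⟨h2, h3⟩, h4⟩
      apply Function.Embedding.ext
      intro i
      fin_cases i
      · exact h2
      · exact h3
      · exact h4
  rw [hJ] at h
  have horb : MulAction.orbit ↥(⊤ : Subgroup ↥M24) t0 = Set.univ := by
    ext t
    simp only [Set.mem_univ, iff_true]
    have h3 := m24_three_trans
    rw [MulAction.isMultiplyPretransitive_iff] at h3
    obtain ⟨g, hg⟩ := h3 t0 t
    exact ⟨⟨g, Subgroup.mem_top g⟩, hg⟩
  have hcount : (MulAction.orbit ↥(⊤ : Subgroup ↥M24) t0).ncard = 12144 := by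
    rw [horb, Set.ncard_univ, Nat.card_eq_fintype_card, Fintype.card_embedding_eq, card_golayPt,
      Fintype.card_fin]
    decide
  have h' : 244823040 = 12144 * Nat.card ↥(MulAction.stabilizer M24 p ⊓
      MulAction.stabilizer M24 q ⊓ MulAction.stabilizer M24 r) := by
    rw [← hcount]
    exact h
  omega

/-- the stabilizer of three standard points. -/
def H21 : Subgroup ↥M24 :=
  MulAction.stabilizer M24 (idxPtN 0) ⊓ MulAction.stabilizer M24 (idxPtN 1) ⊓
    MulAction.stabilizer M24 (idxPtN 2)

theorem idxPtN_ne {i j : ℕ} (hi : i < 24) (hj : j < 24) (h : i ≠ j) : idxPtN i ≠ idxPtN j :=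
  fun e => h (idxPtN_injOn hi hj e)

theorem card_H21 : Nat.card H21 = 20160 :=
  card_three_pt_stab (idxPtN_ne (i := 0) (j := 1) (by norm_num) (by norm_num) (by norm_num))
    (idxPtN_ne (i := 0) (j := 2) (by norm_num) (by norm_num) (by norm_num))
    (idxPtN_ne (i := 1) (j := 2) (by norm_num) (by norm_num) (by norm_num))

/-- the stabilizer of three points is isomorphic to the standard one. -/
theorem three_pt_stab_iso {p q r : GolayPt} (hpq : p ≠ q) (hpr : p ≠ r) (hqr : q ≠ r) :
    Nonempty (↥(MulAction.stabilizer M24 p ⊓ MulAction.stabilizer M24 q ⊓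
      MulAction.stabilizer M24 r) ≃* ↥H21) := by
  obtain ⟨k, hkp, hkq, hkr⟩ := m24_triple
    (idxPtN_ne (i := 0) (j := 1) (by norm_num) (by norm_num) (by norm_num))
    (idxPtN_ne (i := 0) (j := 2) (by norm_num) (by norm_num) (by norm_num))
    (idxPtN_ne (i := 1) (j := 2) (by norm_num) (by norm_num) (by norm_num)) hpq hpr hqr
  have e1 : MulAction.stabilizer M24 p =
      (MulAction.stabilizer M24 (idxPtN 0)).map (MulAut.conj k).toMonoidHom := by
    rw [← MulAction.stabilizer_smul_eq_stabilizer_map_conj, hkp]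
  have e2 : MulAction.stabilizer M24 q =
      (MulAction.stabilizer M24 (idxPtN 1)).map (MulAut.conj k).toMonoidHom := by
    rw [← MulAction.stabilizer_smul_eq_stabilizer_map_conj, hkq]
  have e3 : MulAction.stabilizer M24 r =
      (MulAction.stabilizer M24 (idxPtN 2)).map (MulAut.conj k).toMonoidHom := by
    rw [← MulAction.stabilizer_smul_eq_stabilizer_map_conj, hkr]
  have hinj : Function.Injective (MulAut.conj k).toMonoidHom := (MulAut.conj k).injective
  have e : MulAction.stabilizer M24 p ⊓ MulAction.stabilizer M24 q ⊓ MulAction.stabilizer M24 r =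
      H21.map (MulAut.conj k).toMonoidHom := by
    unfold H21
    rw [Subgroup.map_inf _ _ _ hinj, Subgroup.map_inf _ _ _ hinj, ← e1, ← e2, ← e3]
  exact ⟨(MulEquiv.subgroupCongr e).trans (Subgroup.equivMapOfInjective H21 _ hinj).symm⟩

end Cfsg.Agent.Helper9.Golay
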