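import Mathlib
import Cfsg.Prelude
import Cfsg.Agent.Helper9.L34.Plane
import Cfsg.Agent.Helper9.L34.Stab3
import Cfsg.Agent.Helper9.GrpIso
import Cfsg.Agent.Helper9.Golay.CertT2
import Cfsg.Agent.Helper9.Golay.SimpleCert
import Cfsg.Agent.Helper7.LinearCard

set_option autoImplicit false
set_option Elab.async false

/-!
The stabilizer of three points in the group of the code is isomorphic to the projective special
linear group of degree three over the field with four elements.
-/

namespace Cfsg.Agent.Helper9.Golay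

open Cfsg Cfsg.Agent.Helper9
open scoped LinearAlgebra.Projectivization Pointwise

abbrev S34 : Type := Matrix.SpecialLinearGroup (Fin 3) K4
abbrev P34 : Type := Matrix.ProjectiveSpecialLinearGroup (Fin 3) K4

/-- the matrix given by lists of numbers. -/
def matOf34 (l : List (List ℕ)) : Matrix (Fin 3) (Fin 3) K4 :=
  fun i j => k4of ((l.getD i.val []).getD j.val 0)

theorem det_a : (matOf34 (l34Mats.getD 0 [])).det = 1 := by
  rw [Matrix.det_fin_three]
  decide

theorem det_b : (matOf34 (l34Mats.getD 1 [])).det = 1 := by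
  rw [Matrix.det_fin_three]
  decide

def M34a : S34 := ⟨matOf34 (l34Mats.getD 0 []), det_a⟩
def M34b : S34 := ⟨matOf34 (l34Mats.getD 1 []), det_b⟩

theorem smul_apply3 (M : S34) (v : V34) (i : Fin 3) :
    (M • v) i = M.1 i 0 * v 0 + M.1 i 1 * v 1 + M.1 i 2 * v 2 := by
  rw [Matrix.SpecialLinearGroup.smul_def, Matrix.smul_eq_mulVec]
  simp [Matrix.mulVec, dotProduct, Fin.sum_univ_three]

/-- the action of a matrix on the numbers of the points agrees with a table. -/
def equivOK (M : Matrix (Fin 3) (Fin 3) K4) (t : List ℕ) : Prop :=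
  ∀ x y z : K4, (x ≠ 0 ∨ y ≠ 0 ∨ z ≠ 0) →
    ptN3 (M 0 0 * x + M 0 1 * y + M 0 2 * z) (M 1 0 * x + M 1 1 * y + M 1 2 * z)
      (M 2 0 * x + M 2 1 * y + M 2 2 * z) = t.getD (ptN3 x y z) 0

theorem equiv_a : equivOK (matOf34 (l34Mats.getD 0 [])) (l34GenTabs.getD 0 []) := by
  unfold equivOK
  decide

theorem equiv_b : equivOK (matOf34 (l34Mats.getD 1 [])) (l34GenTabs.getD 1 []) := by
  unfold equivOK
  decide

theorem beta34_smul {M : S34} {t : List ℕ} (h : equivOK M.1 t) {σ : Equiv.Perm GolayPt}
    (hσ : IsTbl σ t) (X : ℙ K4 V34) : beta34 (M • X) = σ (beta34 X) := by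
  induction X using Projectivization.ind with | _ v hv =>
  rw [Projectivization.smul_mk, beta34_mk, beta34_mk]
  unfold ptOf
  rw [hσ.apply_idx (ptN_lt v)]
  congr 1
  have := h (v 0) (v 1) (v 2) (coords_ne_zero hv)
  unfold ptN
  rw [smul_apply3, smul_apply3, smul_apply3]
  exact this

/-- the pairs of an element of the stabilizer and a class of matrices acting in the same way. -/
def R34 : Subgroup (↥H21 × P34) where
  carrier := {p | ∀ X : ℙ K4 V34,
    beta34 (p.2 • X) = (((p.1 : ↥H21) : ↥M24) : Equiv.Perm GolayPt) (beta34 X)}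
  one_mem' := by
    intro X
    change beta34 ((1 : P34) • X) = beta34 X
    rw [one_smul]
  mul_mem' := by
    rintro ⟨h, t⟩ ⟨h', t'⟩ hp hp' X
    change beta34 ((t * t') • X) =
      (((h : ↥H21) : ↥M24) : Equiv.Perm GolayPt) ((((h' : ↥H21) : ↥M24) : Equiv.Perm GolayPt)
        (beta34 X))
    rw [mul_smul, hp (t' • X), hp' X]
  inv_mem' := by
    rintro ⟨h, t⟩ hp X
    change beta34 (t⁻¹ • X) = (((h : ↥H21) : ↥M24) : Equiv.Perm GolayPt)⁻¹ (beta34 X)
    have := hp (t⁻¹ • X)
    rw [smul_inv_smul] at this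
    rw [this]
    simp

theorem mem_R34 (h : ↥H21) (t : P34) : (h, t) ∈ R34 ↔ ∀ X : ℙ K4 V34,
    beta34 (t • X) = (((h : ↥H21) : ↥M24) : Equiv.Perm GolayPt) (beta34 X) := Iff.rfl

theorem card_P34 : Nat.card P34 = 20160 := by
  have h1 := Cfsg.Agent.Helper7.card_center_mul_card_PSL (F := K4) 3 (by norm_num)
  have h2 := Cfsg.Agent.Helper7.card_units_mul_card_SL (n := Fin 3) (F := K4)
  have h3 := Matrix.card_GL_field (n := 3) (𝔽 := K4)
  rw [Fin.prod_univ_three] at h3
  have e0 : ((0 : Fin 3) : ℕ) = 0 := rfl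
  have e1' : ((1 : Fin 3) : ℕ) = 1 := rfl
  have e2' : ((2 : Fin 3) : ℕ) = 2 := rfl
  rw [e0, e1', e2'] at h3
  rw [K4.card] at h1 h2 h3
  rw [h3] at h2
  have e1 : Nat.gcd 3 (4 - 1) = 3 := by decide
  rw [e1] at h1
  change 3 * Nat.card P34 = Nat.card S34 at h1
  change (4 - 1) * Nat.card S34 = _ at h2
  generalize Nat.card S34 = x at h1 h2
  generalize Nat.card P34 = y at h1 ⊢
  norm_num at h2
  omega

/-- the tables of the generators. -/
def l34Init : List (List ℕ) := l34V.map (fun j => (certTabs1 l34Prog1).getD j idT)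

theorem l34Init_eq : l34Init = l34GenTabs := by decide +kernel

theorem l34_chain : chainOK (runSLP l34Prog2 l34GenTabs) [] l34Levels = true := by decide +kernel

theorem l34_bound : chainBound l34Levels = 20160 := by decide +kernel

theorem l34_fix : l34GenTabs.all (fun t => t.getD 0 0 == 0 && t.getD 1 0 == 1 && t.getD 2 0 == 2) =
    true := by decide +kernel

theorem mem_H21_of_tbl {σ : Equiv.Perm GolayPt} (hσ : σ ∈ M24) {t : List ℕ} (ht : IsTbl σ t)
    (h0 : t.getD 0 0 = 0) (h1 : t.getD 1 0 = 1) (h2 : t.getD 2 0 = 2) :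
    (⟨σ, hσ⟩ : ↥M24) ∈ H21 := by
  refine Subgroup.mem_inf.mpr ⟨Subgroup.mem_inf.mpr ⟨?_, ?_⟩, ?_⟩
  · apply MulAction.mem_stabilizer_iff.mpr
    change σ (idxPtN 0) = idxPtN 0
    rw [ht.apply_idx (by norm_num), h0]
  · apply MulAction.mem_stabilizer_iff.mpr
    change σ (idxPtN 1) = idxPtN 1
    rw [ht.apply_idx (by norm_num), h1]
  · apply MulAction.mem_stabilizer_iff.mpr
    change σ (idxPtN 2) = idxPtN 2
    rw [ht.apply_idx (by norm_num), h2]

/-- the stabilizer of three standard points is isomorphic to the projective special linear group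
over the field with four elements. -/
theorem l34_gens_good : GoodT M24 l34GenTabs := by
  have hgood : GoodT M24 (certTabs1 l34Prog1) := goodT_std l34Prog1 M24 stepPerm_mem
  intro t ht
  rw [← l34Init_eq] at ht
  unfold l34Init at ht
  rw [List.mem_map] at ht
  obtain ⟨j, -, rfl⟩ := ht
  exact hgood.getD j

theorem l34_gens_two : l34GenTabs = [l34GenTabs.getD 0 [], l34GenTabs.getD 1 []] := by
  decide +kernel

theorem H21_iso : Nonempty (↥H21 ≃* P34) := by
  have hma : l34GenTabs.getD 0 [] ∈ l34GenTabs := by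
    rw [l34_gens_two]
    simp
  have hmb : l34GenTabs.getD 1 [] ∈ l34GenTabs := by
    rw [l34_gens_two]
    simp
  obtain ⟨σa, hσaM, hσat⟩ := l34_gens_good _ hma
  obtain ⟨σb, hσbM, hσbt⟩ := l34_gens_good _ hmb
  have hfix := l34_fix
  have hfa := List.all_eq_true.mp hfix (l34GenTabs.getD 0 []) hma
  have hfb := List.all_eq_true.mp hfix (l34GenTabs.getD 1 []) hmb
  simp only [Bool.and_eq_true, beq_iff_eq] at hfa hfb
  let ga : ↥H21 := ⟨⟨σa, hσaM⟩, mem_H21_of_tbl hσaM hσat hfa.1.1 hfa.1.2 hfa.2⟩
  let gb : ↥H21 := ⟨⟨σb, hσbM⟩, mem_H21_of_tbl hσbM hσbt hfb.1.1 hfb.1.2 hfb.2⟩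
  have : Finite ↥H21 := Nat.finite_of_card_ne_zero (by rw [card_H21]; norm_num)
  have : Finite P34 := Nat.finite_of_card_ne_zero (by rw [card_P34]; norm_num)
  apply iso_of_graph R34 ?_ ?_ {ga, gb} ?_ ?_ (by rw [card_P34, card_H21])
  · -- first projection injective
    intro t ht
    rw [mem_R34] at ht
    apply eq_of_smul_eq_smul (α := ℙ K4 V34)
    intro X
    rw [one_smul]
    exact beta34_injective (ht X)
  · -- second projection injective
    intro h hh
    rw [mem_R34] at hh
    apply Subtype.ext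
    apply Subtype.ext
    apply Equiv.ext
    intro y
    change (((h : ↥H21) : ↥M24) : Equiv.Perm GolayPt) y = y
    have hmem := h.2
    obtain ⟨⟨h0, h1⟩, h2⟩ : ((h : ↥M24) ∈ MulAction.stabilizer M24 (idxPtN 0) ∧
        (h : ↥M24) ∈ MulAction.stabilizer M24 (idxPtN 1)) ∧
        (h : ↥M24) ∈ MulAction.stabilizer M24 (idxPtN 2) := by
      have := Subgroup.mem_inf.mp hmem
      exact ⟨Subgroup.mem_inf.mp this.1, this.2⟩
    rcases beta34_surj y with rfl | rfl | rfl | ⟨X, rfl⟩
    · exact MulAction.mem_stabilizer_iff.mp h0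
    · exact MulAction.mem_stabilizer_iff.mp h1
    · exact MulAction.mem_stabilizer_iff.mp h2
    · have := hh X
      rw [one_smul] at this
      exact this.symm
  · -- generation
    let C : Subgroup (Equiv.Perm GolayPt) := Subgroup.closure {σa, σb}
    have hinit : GoodT C l34GenTabs := by
      intro t ht
      have : t = l34GenTabs.getD 0 [] ∨ t = l34GenTabs.getD 1 [] := by
        rw [l34_gens_two] at ht
        simpa using ht
      rcases this with rfl | rfl
      · exact ⟨σa, Subgroup.subset_closure (by simp), hσat⟩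
      · exact ⟨σb, Subgroup.subset_closure (by simp), hσbt⟩
    have hrun := goodT_runSLP C l34Prog2 l34GenTabs hinit
    have hlow := chain_lower hrun l34Levels [] l34_chain
    rw [l34_bound] at hlow
    have hC : 20160 ≤ Nat.card C :=
      le_trans hlow (Subgroup.card_le_of_le inf_le_left)
    let ι : ↥H21 →* Equiv.Perm GolayPt := (M24.subtype).comp H21.subtype
    have hι : Function.Injective ι := fun x y h => Subtype.ext (Subtype.ext h)
    have hmap : (Subgroup.closure ({ga, gb} : Set ↥H21)).map ι = C := by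
      rw [MonoidHom.map_closure, Set.image_pair]
      rfl
    apply Subgroup.eq_top_of_le_card
    rw [card_H21, Nat.card_congr
      ((Subgroup.closure ({ga, gb} : Set ↥H21)).equivMapOfInjective ι hι).toEquiv, hmap]
    exact hC
  · -- the generators have partners
    intro s hs
    rcases hs with rfl | rfl
    · refine ⟨((M34a : S34) : P34), ?_⟩
      rw [mem_R34]
      intro X
      rw [Matrix.ProjectiveSpecialLinearGroup.smul_proj_mk]
      change beta34 (M34a • X) = σa (beta34 X)
      exact beta34_smul (M := M34a) (t := l34GenTabs.getD 0 []) equiv_a hσat X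
    · refine ⟨((M34b : S34) : P34), ?_⟩
      rw [mem_R34]
      intro X
      rw [Matrix.ProjectiveSpecialLinearGroup.smul_proj_mk]
      change beta34 (M34b • X) = σb (beta34 X)
      exact beta34_smul (M := M34b) (t := l34GenTabs.getD 1 []) equiv_b hσbt X

/-- the stabilizer of three points is isomorphic to the projective special linear group of degree
three over any field with four elements. -/
theorem three_pt_stab_psl {p q r : GolayPt} (hpq : p ≠ q) (hpr : p ≠ r) (hqr : q ≠ r)
    (F : Type) [Field F] [Fintype F] (hF : Fintype.card F = 4) :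
    Nonempty (↥(MulAction.stabilizer M24 p ⊓ MulAction.stabilizer M24 q ⊓
      MulAction.stabilizer M24 r) ≃* Matrix.ProjectiveSpecialLinearGroup (Fin 3) F) := by
  obtain ⟨e1⟩ := three_pt_stab_iso hpq hpr hqr
  obtain ⟨e2⟩ := H21_iso
  have e : K4 ≃+* F := FiniteField.ringEquivOfCardEq (K4.card.trans hF.symm)
  exact ⟨(e1.trans e2).trans (pslCongr e)⟩

end Cfsg.Agent.Helper9.Golay
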